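import Groth.Agent.AgPol.K46.Hilb

/-!
# The Hilbert scheme of `P^m` with a fixed Hilbert polynomial, absolute form: the theorem

`K46.AgHilb.hilb : K117.Ag.Node.Hilb m Φ` (job A_g HILB).
-/

set_option autoImplicit false
universe u

open CategoryTheory CategoryTheory.Limits AlgebraicGeometry Opposite CohB1 Filter

namespace K46.AgHilb

open Groth.Agent.Fga Groth.Agent.Fga.HilbAsm2 Groth.Agent.Fga.HilbAsm1 Groth.Agent.Fga.HilbFun Groth.Agent.Fga.QA0
  Groth.Agent.Fga.QA1 Groth.Agent.Fga.NoethRep Groth.Agent.Picfga.OverRep Groth.Agent.Fga.HilbClosed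
  Groth.Agent.Fga.QD1Sch Groth.Agent.Fga.QD1Hilb Groth.Agent.CohqB.ProjBC Groth.Agent.Fga.QD1Alg
open K117.Ag (SZ)
open K117.Ag.Node (HilbGood)

noncomputable section

variable {m : ℕ}

section fib

variable {Ω : Type u} [Field Ω]

/-- The dimension of `H⁰(Z, O(d))`. -/
def hz {Z : Scheme.{u}} (q : Z ⟶ Spec (CommRingCat.of Ω)) (g : Z ⟶ ProjSpace m (ULift.{u} ℤ)) (d : ℤ) : ℕ :=
  letI : Z.Over (Spec (CommRingCat.of Ω)) := ⟨q⟩
  Module.finrank Ω (Coh.HH Z ((Scheme.Modules.pullback g).obj (Twist.twistProjSpace m (ULift.{u} ℤ) d)) 0)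

/-- Serre vanishing. -/
theorem exists_chiO_eq {Z : Scheme.{u}} (q : Z ⟶ Spec (CommRingCat.of Ω)) (g : Z ⟶ ProjSpace m (ULift.{u} ℤ))
    (hc : IsClosedImmersion (K390.PnSec.liftP g q)) :
    ∃ D : ℕ, ∀ d : ℕ, D ≤ d → K903.HilbLink.chiO g q d = hz q g d := by
  let _ : Z.Over (Spec (CommRingCat.of Ω)) := ⟨q⟩
  have hc' : IsClosedImmersion (QT4b.toPA g (Z ↘ Spec (CommRingCat.of Ω))) := by
    have h1 : QT4b.toPA g q = K390.PnSec.liftP g q := by
      refine K390.PnSec.hom_ext_over ?_ ?_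
      · rw [K390.PnSec.liftP_toZ]
        exact pullback.lift_fst _ _ _
      · rw [K390.PnSec.liftP_toBase]
        exact pullback.lift_snd _ _ _
    change IsClosedImmersion (QT4b.toPA g q)
    rw [h1]
    exact hc
  obtain ⟨m₀, hm₀⟩ := K277.ChiHilb.exists_vanish Ω g (F := Coh.structureModule Z)
    (Groth.Agent.Fdesc.StructMod.isCoh_structureModule _)
  refine ⟨m₀.toNat, fun d hd => ?_⟩
  rw [K903.HilbLink.chiO, Curv2.euler, hz]
  have h5 : ∀ i : ℕ, i ≠ 0 → (-1 : ℤ) ^ i * (Module.finrank Ω (Coh.HH Z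
      ((Scheme.Modules.pullback g).obj (Twist.twistProjSpace m (ULift.{u} ℤ) (d : ℤ))) i) : ℤ) = 0 := by
    intro i hi
    have h1 := hm₀ d (by omega) i (by omega)
    have h2 := (Groth.Agent.Fga.EulerIso.HHequiv Ω (K903.HilbLink.twgIso g (d : ℤ)) i).toEquiv.symm.subsingleton
    rw [Module.finrank_zero_of_subsingleton]
    simp
  rw [finsum_eq_single _ 0 h5, pow_zero, one_mul]

variable {T : Over SZ.{u}} {X : Scheme.{u}} {f : X ⟶ T.left} {r : X ⟶ ProjSpace m (ULift.{u} ℤ)}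

/-- The Hilbert function of a fibre. -/
theorem exists_fib (hcl : IsClosedImmersion (cX T f r)) (x : FGA.HilbSet (f0.{u} m) T) (hx : x.1 = (cX T f r).ker)
    (t : Spec (CommRingCat.of Ω) ⟶ T.left) :
    ∃ D : ℕ, ∀ d : ℕ, D ≤ d →
      QA1.h (KX (iz.{u} m) (t ≫ T.hom) (toH _ (pullH (f0.{u} m) (Over.homMk t rfl : Over.mk (t ≫ T.hom) ⟶ T) x))) d =
        hz (pullback.snd f t) (pullback.fst f t ≫ r) d := by
  let g : Over.mk (t ≫ T.hom) ⟶ T := Over.homMk t rfl
  let T' : Over SZ.{u} := Over.mk (t ≫ T.hom)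
  let c' : pullback f t ⟶ PicF.XT (f0.{u} m) T' := cX T' (pullback.snd f t) (pullback.fst f t ≫ r)
  have hp : IsPullback (pullback.fst f t) c' (cX T f r) (PicF.XTmap (f0.{u} m) g) :=
    (isPullback_cX (g := g) rfl).1 (IsPullback.of_hasPullback f t)
  have hc' : IsClosedImmersion c' := MorphismProperty.of_isPullback (P := @IsClosedImmersion) hp hcl
  have hk : (pullH (f0.{u} m) g x).1 = c'.ker := by
    rw [pullH_val, hilbPull_eq_comap, hx]
    exact (ker_of_isPullback hp).symm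
  obtain ⟨e, he⟩ := exists_iso_of_eq _ c' hk
  obtain ⟨D₁, h1⟩ := K903.HilbLink.exists_KX_eq_chiO (iz.{u} m) (t ≫ T.hom) (pullH (f0.{u} m) g x)
  obtain ⟨D₂, h2⟩ := exists_chiO_eq (pullback.snd f t) (pullback.fst f t ≫ r) (isClosedImmersion_cX.1 hc')
  refine ⟨max D₁ D₂, fun d hd => ?_⟩
  refine (h1 d ((le_max_left _ _).trans hd)).trans ?_
  rw [← h2 d ((le_max_right _ _).trans hd)]
  have hqc := (pullH (f0.{u} m) g x).2.1
  have e1 : e.hom ≫ ((pullH (f0.{u} m) g x).1.subschemeι ≫ pullback.fst (fX (iz.{u} m)) (t ≫ T.hom) ≫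
      iz.{u} m ≫ fstZ m SZ.{u}) = pullback.fst f t ≫ r := by
    rw [iz_fstZ, ← Category.assoc, he]
    refine (congrArg (fun z => c' ≫ z) (Category.comp_id _)).trans ?_
    exact cX_fst
  have e2 : e.hom ≫ ((pullH (f0.{u} m) g x).1.subschemeι ≫ PicF.XTproj (fX (iz.{u} m)) (Over.mk (t ≫ T.hom))) =
      pullback.snd f t := by
    rw [← Category.assoc, he]
    exact cX_proj
  exact (K903.HilbLink.chiO_iso _ _ _ _ e e1 e2 d).symm

end fib

variable {T : Over SZ.{u}} {X : Scheme.{u}} {f : X ⟶ T.left} {r : X ⟶ ProjSpace m (ULift.{u} ℤ)}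

/-- From the polynomial at algebraically closed points to all field points. -/
theorem fib_of_good {Φ : Polynomial ℚ} (hG : HilbGood m Φ f r) {Φ' : ℤ → ℤ}
    (hΦ : ∀ᶠ k : ℕ in atTop, (Φ' k : ℚ) = Φ.eval (k : ℚ))
    (x : FGA.HilbSet (f0.{u} m) T) (hx : x.1 = (cX T f r).ker) : Fib (QX (iz.{u} m) Φ') T (toH _ x) := by
  have hcl : IsClosedImmersion (cX T f r) := isClosedImmersion_cX.2 hG.closed
  intro K _ s g
  let Ω := AlgebraicClosure K
  let φ : K →+* Ω := algebraMap K Ω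
  let t : Spec (CommRingCat.of Ω) ⟶ T.left := Spec.map (CommRingCat.ofHom φ) ≫ g.left
  let g₁ : Over.mk (t ≫ T.hom) ⟶ Over.mk s := Over.homMk (Spec.map (CommRingCat.ofHom φ)) (by
    change Spec.map (CommRingCat.ofHom φ) ≫ s = (Spec.map (CommRingCat.ofHom φ) ≫ g.left) ≫ T.hom
    rw [Category.assoc, Over.w g]
    rfl)
  obtain ⟨D, hD⟩ := exists_fib (Ω := Ω) hcl x hx t
  have h1 := hG.fib Ω t
  obtain ⟨D', hD'⟩ := Filter.eventually_atTop.1 (h1.and hΦ)
  refine ⟨max D D', fun d hd => ?_⟩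
  have h2 := KX_map (iz.{u} m) φ s (t ≫ T.hom) g₁ rfl ((hilb (f0.{u} m)).map g.op (toH _ x))
  have h3 : (hilb (f0.{u} m)).map g₁.op ((hilb (f0.{u} m)).map g.op (toH _ x)) =
      toH _ (pullH (f0.{u} m) (Over.homMk t rfl : Over.mk (t ≫ T.hom) ⟶ T) x) := by
    have h4 : g₁ ≫ g = (Over.homMk t rfl : Over.mk (t ≫ T.hom) ⟶ T) := by
      apply Over.OverMorphism.ext
      rfl
    rw [← h4]
    exact (pullH_comp (f0.{u} m) g₁ g x).symm
  rw [h3] at h2
  have h5 := hD d ((le_max_left _ _).trans hd)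
  rw [h2, QG1.h_bcSat φ (KX_isQuotPt (iz.{u} m) s _).isSat] at h5
  rw [h5]
  have h6 := hD' d ((le_max_right _ _).trans hd)
  have h7 : ((hz (pullback.snd f t) (pullback.fst f t ≫ r) d : ℤ) : ℚ) = (Φ' d : ℚ) := h6.1.trans h6.2.symm
  exact_mod_cast h7

/-- A geometric point of a nonempty base gives the numerical polynomial. -/
theorem exists_num {Φ : Polynomial ℚ} (hG : HilbGood m Φ f r) (t₀ : T.left) :
    ∃ Φ' : ℤ → ℤ, Num (m + 1) Φ' ∧ ∀ᶠ k : ℕ in atTop, (Φ' k : ℚ) = Φ.eval (k : ℚ) := by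
  have hcl : IsClosedImmersion (cX T f r) := isClosedImmersion_cX.2 hG.closed
  let Ω := AlgebraicClosure (T.left.residueField t₀)
  let t : Spec (CommRingCat.of Ω) ⟶ T.left :=
    Spec.map (CommRingCat.ofHom (algebraMap (T.left.residueField t₀) Ω)) ≫ T.left.fromSpecResidueField t₀
  have hfl : Flat (cX T f r ≫ PicF.XTproj (f0.{u} m) T) := by rw [cX_proj]; exact hG.flat
  let x : FGA.HilbSet (f0.{u} m) T := ⟨(cX T f r).ker, ker_mem _ hfl⟩
  obtain ⟨D, hD⟩ := exists_fib (Ω := Ω) hcl x rfl t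
  have hq := KX_isQuotPt (iz.{u} m) (t ≫ T.hom)
    (toH _ (pullH (f0.{u} m) (Over.homMk t rfl : Over.mk (t ≫ T.hom) ⟶ T) x))
  obtain ⟨Φ', h1, ⟨D', h2⟩, -⟩ := QA2.field_main hq.isHom hq.isSat
  rw [Fintype.card_fin] at h1
  refine ⟨Φ', h1, ?_⟩
  filter_upwards [hG.fib Ω t, Filter.eventually_ge_atTop (max D D')] with d h3 h4
  rw [← h2 d ((le_max_right _ _).trans h4), hD d ((le_max_left _ _).trans h4), ← h3]
  rfl

/-- The universal family is good. -/
theorem good_of_fib {Φ : Polynomial ℚ} {Φ' : ℤ → ℤ} (hΦ : ∀ᶠ k : ℕ in atTop, (Φ' k : ℚ) = Φ.eval (k : ℚ))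
    (x : FGA.HilbSet (f0.{u} m) T) (hx : Fib (QX (iz.{u} m) Φ') T (toH _ x)) :
    HilbGood m Φ (x.1.subschemeι ≫ PicF.XTproj (f0.{u} m) T) (x.1.subschemeι ≫ pullback.fst (f0.{u} m) T.hom) := by
  have h0 : x.1.subschemeι = cX T (x.1.subschemeι ≫ PicF.XTproj (f0.{u} m) T)
      (x.1.subschemeι ≫ pullback.fst (f0.{u} m) T.hom) := eq_cX _
  have hcl : IsClosedImmersion (cX T (x.1.subschemeι ≫ PicF.XTproj (f0.{u} m) T)
      (x.1.subschemeι ≫ pullback.fst (f0.{u} m) T.hom)) := by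
    rw [← h0]; infer_instance
  refine ⟨isClosedImmersion_cX.1 hcl, x.2.2, fun Ω _ _ t => ?_⟩
  obtain ⟨D, hD⟩ := exists_fib (Ω := Ω) hcl x (by rw [← h0, Scheme.IdealSheafData.ker_subschemeι]) t
  obtain ⟨D', hD'⟩ := hx Ω (t ≫ T.hom) (Over.homMk t rfl)
  filter_upwards [hΦ, Filter.eventually_ge_atTop (max D D')] with d h3 h4
  rw [← h3]
  have h5 := hD d ((le_max_left _ _).trans h4)
  have h6 := hD' d ((le_max_right _ _).trans h4)
  have h7 : (hz (pullback.snd (x.1.subschemeι ≫ PicF.XTproj (f0.{u} m) T) t)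
      (pullback.fst (x.1.subschemeι ≫ PicF.XTproj (f0.{u} m) T) t ≫
        (x.1.subschemeι ≫ pullback.fst (f0.{u} m) T.hom)) d : ℤ) = Φ' d := h5.symm.trans h6
  rw [← h7]
  rfl

/-- **HILB.** -/
theorem hilb (m : ℕ) (Φ : Polynomial ℚ) : K117.Ag.Node.Hilb.{u} m Φ := by
  by_cases hcase : ∃ Φ' : ℤ → ℤ, Num (m + 1) Φ' ∧ ∀ᶠ k : ℕ in atTop, (Φ' k : ℚ) = Φ.eval (k : ℚ)
  · obtain ⟨Φ', hΦ', hΦ⟩ := hcase
    obtain ⟨P, ρ, N, c, hc⟩ := RepQMain.exists_repQ.{u} (Fin (m + 1)) Unit Φ' (by rwa [Fintype.card_fin])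
    obtain ⟨H, ξ, c', hr, hc', hc''⟩ := exists_nrep_X (iz.{u} m) hΦ' ρ c
    have hL : LocallyOfFiniteType H.hom := by
      rw [← hc'']; infer_instance
    have hC : QuasiCompact H.hom := by
      rw [← hc'']; infer_instance
    have hS : IsSeparated H.hom := by
      rw [← hc'']; infer_instance
    have hN : IsLocallyNoetherian H.left := hr.noeth
    have hcs : CompactSpace H.left := QuasiCompact.compactSpace_of_compactSpace H.hom
    let y : FGA.HilbSet (f0.{u} m) H := ξ.1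
    have hy : Fib (QX (iz.{u} m) Φ') H (toH _ y) := ξ.2
    refine ⟨H.left, y.1.subscheme, y.1.subschemeι ≫ PicF.XTproj (f0.{u} m) H,
      y.1.subschemeι ≫ pullback.fst (f0.{u} m) H.hom, { }, good_of_fib hΦ y hy, fun h => ?_, ?_⟩
    · obtain rfl : h = H.hom := specULiftZIsTerminal.hom_ext _ _
      exact ⟨hL, hS⟩
    · intro T₀ X _ f r hG
      let T : Over SZ.{u} := Over.mk (specULiftZIsTerminal.from T₀)
      have hTn : IsLocallyNoetherian T.left := inferInstanceAs (IsLocallyNoetherian T₀)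
      let f₁ : X ⟶ T.left := f
      have hG₁ : HilbGood m Φ f₁ r := hG
      have hcl : IsClosedImmersion (cX T f₁ r) := isClosedImmersion_cX.2 hG₁.closed
      have hfl : Flat (cX T f₁ r ≫ PicF.XTproj (f0.{u} m) T) := by rw [cX_proj]; exact hG₁.flat
      let x : FGA.HilbSet (f0.{u} m) T := ⟨(cX T f₁ r).ker, ker_mem _ hfl⟩
      obtain ⟨g, hg, hg'⟩ := hr.univ T ⟨toH _ x, fib_of_good hG₁ hΦ x rfl⟩
      have key : ∀ a : T ⟶ H, (hilbX (iz.{u} m) Φ').map a.op ξ = ⟨toH _ x, fib_of_good hG₁ hΦ x rfl⟩ ↔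
          ∃ q : X ⟶ y.1.subscheme, IsPullback q f₁ (y.1.subschemeι ≫ PicF.XTproj (f0.{u} m) H) a.left ∧
            q ≫ y.1.subschemeι ≫ pullback.fst (f0.{u} m) H.hom = r := by
        intro a
        have e0 : (hilbX (iz.{u} m) Φ').map a.op ξ = ⟨toH _ x, fib_of_good hG₁ hΦ x rfl⟩ ↔
            y.1.comap (PicF.XTmap (f0.{u} m) a) = (cX T f₁ r).ker := by
          rw [← hilbPull_eq_comap]
          constructor
          · intro h
            exact congrArg (fun z => idl _ (Subtype.val z)) h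
          · intro h
            exact Subtype.ext (Subtype.ext h)
        rw [e0]
        constructor
        · intro h
          obtain ⟨e, he⟩ := exists_iso_of_eq _ (cX T f₁ r) h
          have h1 := Groth.Agent.Picfga.IdealDescent.isPullback_comap (PicF.XTmap (f0.{u} m) a) y.1
          set q₀ := Scheme.IdealSheafData.subschemeMap (y.1.comap (PicF.XTmap (f0.{u} m) a)) y.1
            (PicF.XTmap (f0.{u} m) a) (y.1.le_map_comap _) with hq₀
          have h2 : IsPullback (e.hom ≫ q₀) (cX T f₁ r) y.1.subschemeι (PicF.XTmap (f0.{u} m) a) := by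
            refine IsPullback.of_iso h1 e.symm (Iso.refl _) (Iso.refl _) (Iso.refl _) ?_ ?_ ?_ ?_
            · simp
            · simp [← he]
            · simp
            · simp
          refine ⟨e.hom ≫ q₀, ?_, ?_⟩
          · have h3 := h2.paste_vert (RelCart.isPullback_XTmap (f0.{u} m) a)
            rwa [cX_proj] at h3
          · rw [← Category.assoc, h2.w, Category.assoc, FGA.XTmap_fst, cX_fst]
        · rintro ⟨q, hq, hqr⟩
          have h1 : IsPullback q (cX T f₁ r) y.1.subschemeι (PicF.XTmap (f0.{u} m) a) := by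
            have h2 := (isPullback_cX (g := a) hqr).1 hq
            rwa [← eq_cX] at h2
          have h3 := ker_of_isPullback h1
          rw [Scheme.IdealSheafData.ker_subschemeι] at h3
          exact h3.symm
      obtain ⟨q, hq, hqr⟩ := (key g).1 hg
      refine ⟨g.left, ⟨q, hq, hqr⟩, ?_⟩
      rintro a' ⟨q', hq', hqr'⟩
      have h4 := hg' (Over.homMk a' (specULiftZIsTerminal.hom_ext _ _)) ((key _).2 ⟨q', hq', hqr'⟩)
      exact congrArg (fun z : T ⟶ H => z.left) h4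
  · refine ⟨∅, ∅, 𝟙 _, isInitialOfIsEmpty.to _, { }, ⟨?_, inferInstance, fun Ω _ _ t => ?_⟩, fun h => ?_, ?_⟩
    · infer_instance
    · exact (IsEmpty.false (t (IsLocalRing.closedPoint Ω))).elim
    · exact ⟨inferInstance, inferInstance⟩
    · intro T₀ X _ f r hG
      have hT : IsEmpty T₀ := ⟨fun t => hcase (exists_num (T := Over.mk (specULiftZIsTerminal.from T₀)) hG t)⟩
      have hX : IsEmpty X := ⟨fun x => hT.elim (f x)⟩
      refine ⟨isInitialOfIsEmpty.to _, ⟨isInitialOfIsEmpty.to _, ?_, isInitialOfIsEmpty.hom_ext _ _⟩,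
        fun a _ => isInitialOfIsEmpty.hom_ext _ _⟩
      have h1 : IsIso f := isIso_of_isEmpty f
      have h2 : IsIso (𝟙 (∅ : Scheme.{u})) := inferInstance
      exact IsPullback.of_vert_isIso ⟨isInitialOfIsEmpty.hom_ext _ _⟩

end

end K46.AgHilb
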