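import Groth.Agent.AgPol.K652.QPNodes
import Groth.Agent.Ega2.AmpleWeight
import Groth.Agent.Fdesc.LocGenAmple
import Groth.Agent.Sga5.AmpleFib
import Groth.Agent.S10962

/-!
# Closed subschemes of `P^m_T` are cut out by forms of every large degree

`K46.Cut.cut : K652.QPNodes.Cut`.
-/

set_option autoImplicit false
universe u

open CategoryTheory Limits AlgebraicGeometry TopologicalSpace

namespace K46.Cut

open Groth.Agent.Grpsch.PicGrp Groth.Agent.Fdesc.LocGen

variable {X Y : Scheme.{u}}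

/-- A section which generates at no point of the quasi-compact scheme `X` has powers vanishing on `X`. -/
theorem exists_pullTop_pow_eq_zero (i : X ⟶ Y) [CompactSpace X] {M : Y.Modules} (hM : PicF.IsInvertible M)
    (s : Γ(M, ⊤)) (h : i ⁻¹ᵁ (CohB1.genLocus M (homOf s)) = ⊥) :
    ∃ n : ℕ, 1 ≤ n ∧ pullTop i (pow s n) = 0 := by
  have key : ∀ x : X, ∃ (V : X.Opens) (n : ℕ), x ∈ V ∧ ∀ m, n ≤ m →
      res ((Scheme.Modules.pullback i).obj (CohB1.tensorPow M m)) le_top (pullTop i (pow s m)) =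
        (0 : Γ((Scheme.Modules.pullback i).obj (CohB1.tensorPow M m), V)) := by
    intro x
    obtain ⟨U, e, hx, he⟩ := (isInvertible_iff M).mp hM (i x)
    obtain ⟨V, hV, hxV, hVU⟩ := exists_affine_nhds (U := i ⁻¹ᵁ U) (x := x) hx
    obtain ⟨c, hc⟩ := he.exists_eq (res M le_top s)
    have h1 := genLocus_inf_eq (homOf s) he ((sec_homOf _ _).trans hc)
    have h2 : X.basicOpen (i.app U c) = ⊥ := by
      rw [← Scheme.preimage_basicOpen, ← h1]
      apply le_bot_iff.mp
      rw [← h]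
      exact fun y hy => hy.1
    have h3 : X.basicOpen (ores hVU (i.app U c)) = ⊥ := by
      apply le_bot_iff.mp
      rw [← h2]
      have h4 : X.basicOpen (ores hVU (i.app U c)) = V ⊓ X.basicOpen (i.app U c) :=
        Scheme.basicOpen_res X _ (homOfLE hVU).op
      rw [h4]
      exact inf_le_right
    obtain ⟨n, hn⟩ := (Scheme.isNilpotent_iff_basicOpen_eq_bot_of_isCompact hV.isCompact _).mpr h3
    refine ⟨V, n, hxV, fun m hm => ?_⟩
    have h5 : res ((Scheme.Modules.pullback i).obj (CohB1.tensorPow M m)) le_top (pullTop i (pow s m)) =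
        pullSec i (res (CohB1.tensorPow M m) (le_top : U ≤ ⊤) (pow s m)) :=
      res_pullSec i (le_top : U ≤ ⊤) (pow s m)
    have h6 : res ((Scheme.Modules.pullback i).obj (CohB1.tensorPow M m)) (le_top : V ≤ ⊤) (pullTop i (pow s m)) =
        res ((Scheme.Modules.pullback i).obj (CohB1.tensorPow M m)) hVU
          (res ((Scheme.Modules.pullback i).obj (CohB1.tensorPow M m)) le_top (pullTop i (pow s m))) :=
      (res_res _ _ _ _).symm
    rw [h6, h5, res_pow, hc, smul_pow, pullSec_smul, res_smul, map_pow, map_pow]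
    have h7 : (ores hVU (i.app U c)) ^ m = 0 := by
      obtain ⟨l, rfl⟩ := Nat.exists_eq_add_of_le hm
      rw [_root_.pow_add, hn, zero_mul]
    exact (congrArg (· • _) h7).trans (zero_smul _ _)
  choose V n hxV hn using key
  obtain ⟨t, ht⟩ := (isCompact_univ (X := X)).elim_finite_subcover (fun x => ((V x : X.Opens) : Set X))
    (fun x => (V x).2) (fun x _ => Set.mem_iUnion.mpr ⟨x, hxV x⟩)
  refine ⟨t.sup n + 1, by omega, ?_⟩
  refine res_ext _ (ι := t) (fun x => V x.1) (fun x => le_top) ?_ fun x => ?_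
  · intro y _
    obtain ⟨x, hx⟩ := Set.mem_iUnion.mp (ht (Set.mem_univ y))
    obtain ⟨hx, hy⟩ := Set.mem_iUnion.mp hx
    exact Opens.mem_iSup.mpr ⟨⟨x, hx⟩, hy⟩
  · rw [hn x.1 _ ((Finset.le_sup x.2).trans (Nat.le_succ _)), map_zero]

/-- Products with a section vanishing on `X` vanish on `X`. -/
theorem pullTop_tmul_eq_zero (i : X ⟶ Y) {M N : Y.Modules} (hM : PicF.IsInvertible M) (hN : PicF.IsInvertible N)
    (s : Γ(M, ⊤)) (t : Γ(N, ⊤)) (h : pullTop i s = 0) : pullTop i (tmul s t) = 0 := by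
  have h1 : (pullTensor i M N).app (i ⁻¹ᵁ ⊤) (pullSec i (tmul s t)) = tmul (pullSec i s) (pullSec i t) :=
    pullTensor_app i s t
  have h2 : pullSec i s = 0 := h
  have h3 : tmul (pullSec i s) (pullSec i t) = 0 := by
    rw [h2]
    have := smul_tmul (M := (Scheme.Modules.pullback i).obj M) (0 : Γ(X, i ⁻¹ᵁ ⊤)) 0 (pullSec i t)
    rw [zero_smul, zero_smul] at this
    exact this
  rw [h3] at h1
  have := isIso_pullTensor i hM hN
  have h4 : (inv (pullTensor i M N)).app (i ⁻¹ᵁ ⊤) ((pullTensor i M N).app (i ⁻¹ᵁ ⊤) (pullSec i (tmul s t))) =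
      pullSec i (tmul s t) := congr(($(IsIso.hom_inv_id (pullTensor i M N))).app (i ⁻¹ᵁ ⊤) (pullSec i (tmul s t)))
  have h5 : pullSec i (tmul s t) = 0 := by rw [← h4, h1, map_zero]
  exact h5

/-- Transport of vanishing along isomorphisms. -/
theorem pullTop_app_eq_zero (i : X ⟶ Y) {M N : Y.Modules} (e : M ≅ N) (s : Γ(M, ⊤)) (h : pullTop i s = 0) :
    pullTop i (e.hom.app ⊤ s) = 0 := by
  have h1 : ((Scheme.Modules.pullback i).map e.hom).app (i ⁻¹ᵁ ⊤) (pullSec i s) = pullSec i (e.hom.app ⊤ s) :=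
    pullback_map_pullSec i e.hom s
  have h2 : pullSec i s = 0 := h
  rw [h2, map_zero] at h1
  exact h1.symm

/-- Sections of powers of an ample module vanishing on a closed subscheme and generating at a given point
outside. -/
theorem exists_local (i : X ⟶ Y) [CompactSpace X] (hi : IsClosed (Set.range i)) {L : Y.Modules} (hL : CohB1.IsAmple L)
    (z : Y) (hz : z ∉ Set.range i) : ∃ (d : ℕ) (M : Y.Modules) (hM : PicF.IsInvertible M) (s : Γ(M, ⊤)),
      mk M hM = mk L hL.1 ^ d ∧ pullTop i s = 0 ∧ z ∈ CohB1.genLocus M (homOf s) := by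
  obtain ⟨m, t, h1, h2, -⟩ := IsAmple.exists_genLocus_le hL (W := ⟨(Set.range i)ᶜ, hi.isOpen_compl⟩) (x := z) hz
  have hM := isInvertible_tensorPow hL.1 (m + 1)
  have h3 : i ⁻¹ᵁ (CohB1.genLocus _ (homOf (sec t ⊤))) = ⊥ := by
    rw [homOf_sec]
    apply le_bot_iff.mp
    intro x hx
    exact absurd ⟨x, rfl⟩ (h2 hx)
  obtain ⟨n, hn, h4⟩ := exists_pullTop_pow_eq_zero i hM (sec t ⊤) h3
  refine ⟨(m + 1) * n, _, isInvertible_tensorPow hM n, pow (sec t ⊤) n, ?_, h4, ?_⟩
  · rw [mk_tensorPow hM n, mk_tensorPow hL.1 (m + 1), pow_mul]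
  · have h5 := Groth.Agent.Ega2.Weight.genLocus_powHom hM t (n := n) (by omega)
    rw [← h5] at h1
    exact h1

/-- A closed subscheme of a Noetherian scheme `Y` with an ample module `L` generated by its sections is cut out by
sections of every large power of `L`. -/
theorem exists_bound (i : X ⟶ Y) [CompactSpace X] [NoetherianSpace Y] (hi : IsClosed (Set.range i)) {L : Y.Modules}
    (hL : CohB1.IsAmple L) {κ : Type*} (x : κ → Γ(L, ⊤)) (hx : ∀ z, ∃ k, z ∈ CohB1.genLocus L (homOf (x k))) :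
    ∃ D₀ : ℕ, ∀ D : ℕ, D₀ ≤ D → ∀ (N : Y.Modules) (hN : PicF.IsInvertible N), mk N hN = mk L hL.1 ^ D →
      ∀ z, z ∉ Set.range i → ∃ s : Γ(N, ⊤), pullTop i s = 0 ∧ z ∈ CohB1.genLocus N (homOf s) := by
  choose d M hM s h1 h2 h3 using exists_local i hi hL
  have hcomp : IsCompact ((Set.range i)ᶜ) := NoetherianSpace.isCompact _
  obtain ⟨t, ht⟩ := hcomp.elim_finite_subcover
    (fun z : ((Set.range i)ᶜ : Set Y) => ((CohB1.genLocus _ (homOf (s z.1 z.2)) : Y.Opens) : Set Y))
    (fun z => (CohB1.genLocus _ (homOf (s z.1 z.2))).2) (fun z hz => Set.mem_iUnion.mpr ⟨⟨z, hz⟩, h3 z hz⟩)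
  refine ⟨t.sup fun z => d z.1 z.2, fun D hD N hN hcl z hz => ?_⟩
  obtain ⟨w, hw⟩ := Set.mem_iUnion.mp (ht hz)
  obtain ⟨hwt, hzw⟩ := Set.mem_iUnion.mp hw
  have hdD : d w.1 w.2 ≤ D := (Finset.le_sup (f := fun z : ((Set.range i)ᶜ : Set Y) => d z.1 z.2) hwt).trans hD
  obtain ⟨k, hk⟩ := hx z
  have hMw := hM w.1 w.2
  have hP := isInvertible_tensorPow hL.1 (D - d w.1 w.2)
  have e : Nonempty (CohB1.tensorMod (M w.1 w.2) (CohB1.tensorPow L (D - d w.1 w.2)) ≅ N) := by
    rw [← mk_eq_iff (isInvertible_tensorMod hMw hP) hN, ← mk_mul_mk hMw hP, h1, mk_tensorPow hL.1, ← pow_add, hcl,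
      Nat.add_sub_cancel' hdD]
  obtain ⟨e⟩ := e
  refine ⟨e.hom.app ⊤ (tmul (s w.1 w.2) (pow (x k) (D - d w.1 w.2))), ?_, ?_⟩
  · exact pullTop_app_eq_zero i e _ (pullTop_tmul_eq_zero i hMw hP _ _ (h2 w.1 w.2))
  · rw [K390.PnSec.genLocus_app]
    have h5 := Groth.Agent.Ega2.Weight.genLocus_tmulHom hMw hP (homOf (s w.1 w.2))
      (Groth.Agent.Ega2.Weight.powHom (homOf (x k)) (D - d w.1 w.2))
    have h6 : Groth.Agent.Ega2.Weight.tmulHom (homOf (s w.1 w.2))
      (Groth.Agent.Ega2.Weight.powHom (homOf (x k)) (D - d w.1 w.2)) =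
        homOf (tmul (s w.1 w.2) (pow (x k) (D - d w.1 w.2))) := by
      apply hom_ext_sec
      rw [Groth.Agent.Ega2.Weight.sec_tmulHom, Groth.Agent.Ega2.Weight.sec_powHom, sec_homOf, sec_homOf, sec_homOf,
        res_refl, res_refl, res_refl]
    rw [← h6, h5]
    refine ⟨hzw, ?_⟩
    rcases Nat.eq_zero_or_pos (D - d w.1 w.2) with h7 | h7
    · rw [h7]
      have h8 : (⊤ : Y.Opens) ≤ CohB1.genLocus _ (Groth.Agent.Ega2.Weight.powHom (homOf (x k)) 0) := by
        rw [le_genLocus_iff, Groth.Agent.Ega2.Weight.sec_powHom]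
        exact isGen_one ⊤
      exact h8 trivial
    · rw [Groth.Agent.Ega2.Weight.genLocus_powHom hL.1 _ h7]
      exact hk

/-- `O(1)` on `P^m_T` is ample, `T` affine. -/
theorem isAmple_o1T (m : ℕ) (T : Scheme.{u}) [IsAffine T] :
    CohB1.IsAmple ((Scheme.Modules.pullback (Groth.Agent.Dix.ProjProper.toZ m T)).obj
      (Twist.twistProjSpace m (ULift.{u} ℤ) 1)) := by
  have h := (Groth.Agent.Dix.ProjProper.isPullback_toZ m T)
  have : IsAffineHom (specULiftZIsTerminal.from T) := inferInstance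
  have : IsAffineHom (Groth.Agent.Dix.ProjProper.toZ m T) :=
    MorphismProperty.of_isPullback (P := @IsAffineHom) h.flip inferInstance
  exact Groth.Agent.Sga5.AmpleFib.isAmple_pullback _ (Groth.Agent.S10962.isAmple_of_pos (ULift.{u} ℤ) m one_pos)

/-- **Closed subschemes of `P^m_T` are cut out by forms of every large degree.** -/
theorem cut : K652.QPNodes.Cut.{u} := by
  intro m T X _ _ i _
  have h1 : IsLocallyNoetherian (CohB1.ProjSpaceOver m T) :=
    LocallyOfFiniteType.isLocallyNoetherian (CohB1.ProjSpaceOver.toBase m T)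
  have h2 : CompactSpace (CohB1.ProjSpaceOver m T) :=
    QuasiCompact.compactSpace_of_compactSpace (CohB1.ProjSpaceOver.toBase m T)
  have hNP : IsNoetherian (CohB1.ProjSpaceOver m T) := { }
  have : CompactSpace X := QuasiCompact.compactSpace_of_compactSpace i
  obtain ⟨D₀, h⟩ := exists_bound i i.isClosedEmbedding.isClosed_range (isAmple_o1T m T)
    (fun k => K390.PnSec.crd m T k) (fun z => by
      have h1 := K390.PnSec.GivenBy.iSup_genLocus (K390.PnSec.GivenBy.refl (Groth.Agent.Dix.ProjProper.toZ m T))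
      have h2 : z ∈ (⊤ : (CohB1.ProjSpaceOver m T).Opens) := trivial
      rw [← h1] at h2
      exact Opens.mem_iSup.mp h2)
  refine ⟨D₀, fun D hD N hN hcl z hz => h D hD N hN ?_ z hz⟩
  rw [hcl]
  rfl

end K46.Cut
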