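import Groth.Agent.AgPol.K117.Nodes
import Groth.Agent.CurvSt.K903.HilbLink
import Groth.Agent.Fga.QG1
import Groth.Agent.Fga.RepQMain

/-!
# The Hilbert scheme of `P^m` with a fixed Hilbert polynomial, absolute form

`K46.AgHilb.hilb : K117.Ag.Node.Hilb m Φ` (job A_g HILB).
-/

set_option autoImplicit false
universe u

open CategoryTheory CategoryTheory.Limits AlgebraicGeometry Opposite CohB1

namespace K46.AgHilb

open Groth.Agent.Fga Groth.Agent.Fga.HilbAsm2 Groth.Agent.Fga.HilbAsm1 Groth.Agent.Fga.HilbFun Groth.Agent.Fga.QA0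
  Groth.Agent.Fga.QA1 Groth.Agent.Fga.NoethRep Groth.Agent.Picfga.OverRep Groth.Agent.Fga.HilbClosed
  Groth.Agent.Fga.QD1Sch Groth.Agent.Fga.QD1Hilb Groth.Agent.CohqB.ProjBC Groth.Agent.Fga.QD1Alg
open K117.Ag (SZ)

noncomputable section

section basics

/-- `P^m` as a closed subscheme of `P^m_{Spec ℤ}`. -/
def iz (m : ℕ) : ProjSpace m (ULift.{u} ℤ) ⟶ ProjSpaceOver m SZ.{u} :=
  (isPullback_fstZ m SZ.{u}).lift (𝟙 _) (ProjSpace.toSpec m (ULift.{u} ℤ)) (specULiftZIsTerminal.hom_ext _ _)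

variable {m : ℕ}

theorem iz_fstZ : iz.{u} m ≫ fstZ m SZ.{u} = 𝟙 _ := IsPullback.lift_fst _ _ _ _

instance : IsIso (iz.{u} m) := by
  have h0 : specULiftZIsTerminal.from SZ.{u} = 𝟙 _ := specULiftZIsTerminal.hom_ext _ _
  have h1 : IsIso (specULiftZIsTerminal.from SZ.{u}) := by rw [h0]; infer_instance
  have h2 : IsIso (fstZ m SZ.{u}) :=
    MorphismProperty.of_isPullback (P := MorphismProperty.isomorphisms Scheme.{u}) (isPullback_fstZ m SZ.{u}).flip h1
  have h3 : IsIso (iz.{u} m ≫ fstZ m SZ.{u}) := by rw [iz_fstZ]; infer_instance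
  exact IsIso.of_isIso_comp_right (iz.{u} m) (fstZ m SZ.{u})

variable (m) in
/-- The structure morphism of `P^m`. -/
abbrev f0 : ProjSpace m (ULift.{u} ℤ) ⟶ SZ.{u} := fX (iz.{u} m)

/-- The morphism to `P^m × T`. -/
def cX (T : Over SZ.{u}) {X : Scheme.{u}} (f : X ⟶ T.left) (r : X ⟶ ProjSpace m (ULift.{u} ℤ)) :
    X ⟶ PicF.XT (f0.{u} m) T :=
  pullback.lift r f (specULiftZIsTerminal.hom_ext _ _)

variable {T T' : Over SZ.{u}} {X X' : Scheme.{u}} {f : X ⟶ T.left} {r : X ⟶ ProjSpace m (ULift.{u} ℤ)}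
  {f' : X' ⟶ T'.left} {r' : X' ⟶ ProjSpace m (ULift.{u} ℤ)}

theorem cX_fst : cX T f r ≫ pullback.fst (f0.{u} m) T.hom = r := pullback.lift_fst _ _ _

theorem cX_proj : cX T f r ≫ PicF.XTproj (f0.{u} m) T = f := pullback.lift_snd _ _ _

theorem hom_ext_XT {a b : X ⟶ PicF.XT (f0.{u} m) T}
    (h1 : a ≫ pullback.fst (f0.{u} m) T.hom = b ≫ pullback.fst (f0.{u} m) T.hom)
    (h2 : a ≫ PicF.XTproj (f0.{u} m) T = b ≫ PicF.XTproj (f0.{u} m) T) : a = b :=
  pullback.hom_ext h1 h2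

theorem eq_cX (c : X ⟶ PicF.XT (f0.{u} m) T) :
    c = cX T (c ≫ PicF.XTproj (f0.{u} m) T) (c ≫ pullback.fst (f0.{u} m) T.hom) :=
  hom_ext_XT cX_fst.symm cX_proj.symm

variable (T) in
theorem isPullback_XT :
    IsPullback (pullback.fst (f0.{u} m) T.hom) (PicF.XTproj (f0.{u} m) T) (f0.{u} m) T.hom :=
  IsPullback.of_hasPullback _ _

variable (m T) in
/-- Comparison of `P^m × T` with `P^m_T`. -/
def cmpT : PicF.XT (f0.{u} m) T ⟶ ProjSpaceOver m T.left :=
  K390.PnSec.liftP (pullback.fst (f0.{u} m) T.hom) (PicF.XTproj (f0.{u} m) T)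

instance : IsIso (cmpT m T) := by
  have h1 : IsPullback (Groth.Agent.Dix.ProjProper.toZ m T.left) (ProjSpaceOver.toBase m T.left) (f0.{u} m) T.hom := by
    have h2 : f0.{u} m = ProjSpace.toSpec m (ULift.{u} ℤ) := specULiftZIsTerminal.hom_ext _ _
    have h3 : T.hom = specULiftZIsTerminal.from T.left := specULiftZIsTerminal.hom_ext _ _
    rw [h2, h3]
    exact Groth.Agent.Dix.ProjProper.isPullback_toZ m T.left
  have h4 : cmpT m T = ((isPullback_XT T).isoIsPullback _ _ h1).hom := by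
    refine K390.PnSec.hom_ext_over ?_ ?_
    · refine (K390.PnSec.liftP_toZ _ _).trans ?_
      exact (IsPullback.isoIsPullback_hom_fst _ _ _ _).symm
    · refine (K390.PnSec.liftP_toBase _ _).trans ?_
      exact (IsPullback.isoIsPullback_hom_snd _ _ _ _).symm
  rw [h4]
  infer_instance

theorem cX_cmpT : cX T f r ≫ cmpT m T = K390.PnSec.liftP r f := by
  refine K390.PnSec.hom_ext_over ?_ ?_
  · rw [Category.assoc, cmpT, K390.PnSec.liftP_toZ, cX_fst, K390.PnSec.liftP_toZ]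
  · rw [Category.assoc, cmpT, K390.PnSec.liftP_toBase, cX_proj, K390.PnSec.liftP_toBase]

theorem isClosedImmersion_cX : IsClosedImmersion (cX T f r) ↔ IsClosedImmersion (K390.PnSec.liftP r f) := by
  rw [← cX_cmpT (T := T)]
  exact (MorphismProperty.cancel_right_of_respectsIso @IsClosedImmersion (cX T f r) (cmpT m T)).symm

theorem isPullback_cX {g : T' ⟶ T} {q : X' ⟶ X} (hr : q ≫ r = r') :
    IsPullback q f' f g.left ↔ IsPullback q (cX T' f' r') (cX T f r) (PicF.XTmap (f0.{u} m) g) := by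
  have hg := RelCart.isPullback_XTmap (f0.{u} m) g
  constructor
  · intro h
    refine IsPullback.of_bot (v₂₁ := PicF.XTproj (f0.{u} m) T') (v₂₂ := PicF.XTproj (f0.{u} m) T) (h₃₁ := g.left)
      ?_ ?_ hg
    · rw [cX_proj, cX_proj]
      exact h
    · refine hom_ext_XT ?_ ?_
      · rw [Category.assoc, Category.assoc, cX_fst, FGA.XTmap_fst, cX_fst, hr]
      · rw [Category.assoc, Category.assoc, cX_proj, hg.w, ← Category.assoc, cX_proj, h.w]
  · intro h
    have := h.paste_vert hg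
    rwa [cX_proj, cX_proj] at this

instance : IsProper (PicF.XTproj (f0.{u} m) T) :=
  MorphismProperty.of_isPullback (P := @IsProper) (isPullback_XT T) inferInstance

theorem exists_iso_of_eq {Y : Scheme.{u}} (I : Y.IdealSheafData) (c : X ⟶ Y) [IsClosedImmersion c]
    (h : I = c.ker) : ∃ e : X ≅ I.subscheme, e.hom ≫ I.subschemeι = c := by
  subst h
  have h1 : IsIso c.toImage := inferInstance
  exact ⟨asIso c.toImage, c.toImage_imageι⟩

theorem ker_mem (c : X ⟶ PicF.XT (f0.{u} m) T) [IsClosedImmersion c] (hfl : Flat (c ≫ PicF.XTproj (f0.{u} m) T)) :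
    IsProper (c.ker.subschemeι ≫ PicF.XTproj (f0.{u} m) T) ∧ Flat (c.ker.subschemeι ≫ PicF.XTproj (f0.{u} m) T) := by
  refine ⟨inferInstance, ?_⟩
  obtain ⟨e, he⟩ := exists_iso_of_eq c.ker c rfl
  rw [← MorphismProperty.cancel_left_of_respectsIso @Flat e.hom, ← Category.assoc, he]
  exact hfl

end basics

end

end K46.AgHilb
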